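import Groth.Agent.ConicPt.Point
import Groth.Agent.CurveEmbed.Conic
import Groth.Agent.CurveBC.Main
import Groth.Agent.S1636
import Groth.Agent.FormsVanish.Dim
import Groth.Agent.Pic13Lib.Bdd.Gen
import Groth.Agent.Lib.CurveRR
import Groth.Agent.H23.PicInv

/-!
# Genus zero curves over C₁ fields
-/

set_option autoImplicit false
set_option linter.style.haveILetI false
set_option linter.unusedSectionVars false
set_option maxHeartbeats 3000000
set_option synthInstance.maxHeartbeats 400000
set_option backward.isDefEq.respectTransparency false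
set_option backward.isDefEq.respectTransparency.types false

universe u

open CategoryTheory CategoryTheory.Limits AlgebraicGeometry TopologicalSpace Opposite

noncomputable section

namespace Groth.Agent.ConicPt

open Groth.Agent

/-- A geometrically integral curve of genus zero lies on a conic in the plane. -/
theorem exists_conic (k : Type u) [Field k] (X : Scheme.{u})
    [X.Over (Spec (CommRingCat.of k))] [IsProper (X ↘ Spec (CommRingCat.of k))]
    [GeometricallyIntegral (X ↘ Spec (CommRingCat.of k))]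
    (hdim : topologicalKrullDim X = 1) (hg : Curv2.genus k X = 0) :
    ∃ i : X ⟶ CohB1.ProjSpace 2 k, IsClosedImmersion i ∧
      i ≫ CohB1.ProjSpace.toSpec 2 k = X ↘ Spec (CommRingCat.of k) ∧
      ∃ q : LefPen.Form 2 k 2, q ≠ 0 ∧ LefPen.hypIdeal q ≤ i.ker := by
  haveI : Subsingleton (Spec (CommRingCat.of k)) := inferInstanceAs (Subsingleton (PrimeSpectrum k))
  haveI : IsIntegral X := GeometricallyIntegral.isIntegral_of_subsingleton (X ↘ Spec (CommRingCat.of k))
  haveI := CurveCohLib.isNoetherian_of_proper (k := k) (X := X)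
  have hg1 : Module.finrank k (Coh.HH X (Coh.structureModule X) 1) = 0 := hg
  have hpa : 1 - Curv2.euler k X (Coh.structureModule X) ≤ 0 := by
    have h := CurveRR.euler_eq_h0_sub_h1 k hdim.le (QCoh.isQCoh_structureModule (X := X))
    have h0 := CurveEmbed.h0_structure_pos k (X := X)
    omega
  obtain ⟨hsm, -⟩ := CurveEmbed.conic X k hdim hpa
  haveI := hsm
  haveI : GeometricallyConnected (X ↘ Spec (CommRingCat.of k)) := ⟨fun _ _ _ _ _ _ hp =>
    haveI := GeometricallyIntegral.geometrically_isIntegral (f := X ↘ Spec (CommRingCat.of k)) _ _ _ hp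
    inferInstance⟩
  have h0 : Module.finrank k (Coh.HH X (Coh.structureModule X) 0) = 1 :=
    CurveBC.finrank_h0_of_geometricallyConnected k X
  haveI := CurveCohLib.finite_HH (k := k) (QCoh.isCoh_structureModule' (X := X)) 1
  have h1 : Subsingleton (Coh.HH X (Coh.structureModule X) 1) := Module.finrank_zero_iff.1 hg1
  have hω := CurveBC.isInvertible_omega k X hdim h0
  obtain ⟨L, hL, ⟨φ⟩⟩ := H23.PicInv.exists_inverse hω
  have hdL : Curv2.deg k X L 1 = 2 := by
    have h := (CurveRR.deg_tensor k hdim hω hL).symm.trans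
      ((CurveRR.deg_congr k φ 1).trans (CurveDeg.deg_structureModule k))
    rw [(CurveBC.canonical_invariants k X hdim h0).2, hg] at h
    push_cast at h
    omega
  obtain ⟨i, hi, hie, ⟨eL⟩⟩ := S1636.result k X hdim h0 hg L hL 2 (by norm_num) (by rw [hdL]; norm_num)
  haveI := hi
  let H := (Scheme.Modules.pullback i).obj (Twist.twistProjSpace 2 k 1)
  have hH : PicF.IsInvertible H := PicClLib.isInvertible_pullback i (FormsVanish.isInvertible (n := 2) (k := k) 1)
  have hH2i : PicF.IsInvertible ((Scheme.Modules.pullback i).obj (Twist.twistProjSpace 2 k 2)) :=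
    PicClLib.isInvertible_pullback i (FormsVanish.isInvertible (n := 2) (k := k) 2)
  have hdH : Curv2.deg k X H 1 = 2 := (CurveRR.deg_congr k eL 1).trans hdL
  have hdeg2 : Curv2.deg k X ((Scheme.Modules.pullback i).obj (Twist.twistProjSpace 2 k 2)) 1 = 4 := by
    obtain ⟨t⟩ := PnCoh.Finite.twist_tensor_iso (ProjRegular.coords k 2) ProjRegular.coords_mem
      ProjRegular.coords_cover 1 1
    obtain ⟨p⟩ := Pic13Lib.Bdd.nonempty_pullback_tensor i (Twist.twistProjSpace 2 k 1) (Twist.twistProjSpace 2 k 1)
    have h := CurveRR.deg_tensor k hdim hH hH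
    rw [hdH] at h
    refine Eq.trans ?_ h
    exact CurveRR.deg_congr k ((Scheme.Modules.pullback i).mapIso t.symm ≪≫ p) 1
  have e2 := CurveEmbed.h0_eq k hdim h1 hH2i (by rw [hdeg2]; norm_num)
  rw [hdeg2, h0] at e2
  obtain ⟨W, hW, hd⟩ := FormsVanish.exists_forms k 2 i hie
  rw [show Nat.choose (2 + 2) 2 = 6 from rfl] at hd
  have hW0 : W ≠ ⊥ := fun h => by
    rw [h, finrank_bot] at hd
    have : ((Module.finrank k (Coh.HH X ((Scheme.Modules.pullback i).obj (Twist.twistProjSpace 2 k ((2 : ℕ) : ℤ))) 0) : ℕ) : ℤ) =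
        ((5 : ℕ) : ℤ) := e2.trans (by norm_num)
    omega
  obtain ⟨q, hqW, hq⟩ := Submodule.exists_mem_ne_zero_of_ne_bot hW0
  exact ⟨i, hi, hie, q, hq, hW q hqW⟩

/-- A geometrically integral curve of genus zero over a C₁ field is the projective line. -/
theorem exists_iso_line (k : Type u) [Field k] (hC : Curves.IsCr k 1) (X : Scheme.{u})
    [X.Over (Spec (CommRingCat.of k))] [IsProper (X ↘ Spec (CommRingCat.of k))]
    [GeometricallyIntegral (X ↘ Spec (CommRingCat.of k))]
    (hdim : topologicalKrullDim X = 1) (hg : Curv2.genus k X = 0) :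
    Smooth (X ↘ Spec (CommRingCat.of k)) ∧
      ∃ e : X ≅ CohB1.ProjSpace 1 k, e.hom ≫ CohB1.ProjSpace.toSpec 1 k = X ↘ Spec (CommRingCat.of k) := by
  haveI : Subsingleton (Spec (CommRingCat.of k)) := inferInstanceAs (Subsingleton (PrimeSpectrum k))
  haveI : IsIntegral X := GeometricallyIntegral.isIntegral_of_subsingleton (X ↘ Spec (CommRingCat.of k))
  haveI := CurveCohLib.isNoetherian_of_proper (k := k) (X := X)
  have hg1 : Module.finrank k (Coh.HH X (Coh.structureModule X) 1) = 0 := hg
  have hpa : 1 - Curv2.euler k X (Coh.structureModule X) ≤ 0 := by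
    have h := CurveRR.euler_eq_h0_sub_h1 k hdim.le (QCoh.isQCoh_structureModule (X := X))
    have h0 := CurveEmbed.h0_structure_pos k (X := X)
    omega
  obtain ⟨hsm, hiff⟩ := CurveEmbed.conic X k hdim hpa
  haveI := hsm
  refine ⟨hsm, hiff.2 ?_⟩
  obtain ⟨i, hi, hie, q, hq, hle⟩ := exists_conic k X hdim hg
  exact exists_point hC hdim i hie q hq hle

end Groth.Agent.ConicPt
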