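import Groth.Agent.ConicPt.Curve
import Groth.Agent.VarDim.Fibre
import Groth.Agent.TsenLib.Basic
import Groth.Agent.CodimExt16.Basic
import Groth.Agent.H23.FFDescent
import Groth.Agent.GrpSchLib.FieldSmooth
import Groth.Agent.Genus0Family.Moduli
import Groth.Agent.S10854
import Groth.Agent.CurveCohLib.SubBundle
import Groth.Prelude.Def_Curve

/-!
# Fibrations in genus zero curves over a curve
-/

set_option autoImplicit false
set_option linter.style.haveILetI false
set_option linter.unusedSectionVars false
set_option maxHeartbeats 1000000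
set_option synthInstance.maxHeartbeats 400000
set_option backward.isDefEq.respectTransparency false
set_option backward.isDefEq.respectTransparency.types false

universe u

open CategoryTheory CategoryTheory.Limits AlgebraicGeometry TopologicalSpace Opposite

noncomputable section

namespace Groth.Agent.ConicPt

open Groth.Agent

theorem isIso_specMap_residue (B : Scheme.{u}) [IsIntegral B] :
    IsIso (Spec.map (B.residue (genericPoint B))) := by
  haveI : IsIso (B.residue (genericPoint B)) := (ConcreteCategory.isIso_iff_bijective _).mpr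
    ⟨RingHom.injective (B.residue (genericPoint B)).hom (R := B.functionField),
      B.residue_surjective _⟩
  infer_instance

variable (k : Type u) [Field k] [IsAlgClosed k] {X B : Scheme.{u}}
  (p : X ⟶ Spec (CommRingCat.of k)) (q : B ⟶ Spec (CommRingCat.of k))
  (π : X ⟶ B)

/-- The generic fibre of a fibration of a surface in genus zero curves is the projective line. -/
theorem exists_fibre_line [IsIntegral X] [IsIntegral B] [IsProper p] [IsProper q]
    (hπ : π ≫ q = p) (hX2 : topologicalKrullDim X = 2) (hB1 : topologicalKrullDim B = 1)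
    (hsurj : Function.Surjective π.base)
    [GeometricallyIntegral (π.fiberToSpecResidueField (genericPoint B))]
    (hgen : letI : (π.fiber (genericPoint B)).Over (Spec (B.residueField (genericPoint B))) :=
        ⟨π.fiberToSpecResidueField (genericPoint B)⟩
      Curv2.genus (B.residueField (genericPoint B)) (π.fiber (genericPoint B)) = 0) :
    ∃ e : π.fiber (genericPoint B) ≅ CohB1.ProjSpace 1 (B.residueField (genericPoint B)),
      e.hom ≫ CohB1.ProjSpace.toSpec 1 (B.residueField (genericPoint B)) =
        π.fiberToSpecResidueField (genericPoint B) := by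
  let η := genericPoint B
  haveI : IsProper π := by
    haveI : IsProper (π ≫ q) := hπ ▸ inferInstance
    exact IsProper.of_comp π q
  haveI : Surjective π := ⟨hsurj⟩
  haveI : IsDominant π := inferInstance
  letI : Algebra k (B.residueField η) := (VarDim.resHom q η).toAlgebra
  have hdB : VarDim.deg q η = 1 := by
    have h := VarDim.topologicalKrullDim_eq_deg_genericPoint q
    rw [hB1] at h
    exact_mod_cast h.symm
  have htr : Algebra.trdeg k (B.residueField η) = ((1 : ℕ) : Cardinal) := by
    rw [← hdB]
    exact (VarDim.deg_eq_tdeg q η).symm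
  have hC : Curves.IsCr (B.residueField η) 1 := TsenLib.isCr_one_of_isCi (TsenLib.tsen_lang htr)
  letI : (π.fiber η).Over (Spec (B.residueField η)) := ⟨π.fiberToSpecResidueField η⟩
  haveI : IsProper (π.fiber η ↘ Spec (CommRingCat.of (B.residueField η))) :=
    MorphismProperty.pullback_snd π (B.fromSpecResidueField η) ‹IsProper π›
  haveI : GeometricallyIntegral (π.fiber η ↘ Spec (CommRingCat.of (B.residueField η))) :=
    inferInstanceAs (GeometricallyIntegral (π.fiberToSpecResidueField η))
  haveI : Subsingleton (Spec (CommRingCat.of (B.residueField η))) :=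
    inferInstanceAs (Subsingleton (PrimeSpectrum (B.residueField η)))
  haveI : IsIntegral (π.fiber η) := GeometricallyIntegral.isIntegral_of_subsingleton
    (π.fiber η ↘ Spec (CommRingCat.of (B.residueField η)))
  have hξ : π (genericPoint X) = η :=
    ((genericPoint_spec X).image π.continuous).eq (by
      rw [Set.image_univ, π.denseRange.closure_range]
      exact genericPoint_spec B)
  obtain ⟨z, hz⟩ : genericPoint X ∈ Set.range (π.fiberι η) := by
    rw [π.range_fiberι]; exact hξ
  have hzg : z = genericPoint (π.fiber η) := by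
    have h1 : genericPoint (π.fiber η) ⤳ z := genericPoint_specializes z
    have h2 : z ⤳ genericPoint (π.fiber η) := by
      rw [(π.fiberι η).isEmbedding.isInducing.specializes_iff.symm, hz]
      exact genericPoint_specializes _
    exact (h2.antisymm h1).eq
  have hdim : topologicalKrullDim (π.fiber η) = 1 := by
    rw [VarDim.topologicalKrullDim_eq_deg_genericPoint (k := B.residueField η) (π.fiberToSpecResidueField η),
      VarDim.deg_fiber π η, ← hzg, hz]
    have h1 : VarDim.deg p (genericPoint X) = 2 := by
      have h := VarDim.topologicalKrullDim_eq_deg_genericPoint p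
      rw [hX2] at h
      have h' : ((VarDim.deg p (genericPoint X) : ℕ) : WithBot ℕ∞) = ((2 : ℕ) : WithBot ℕ∞) := h.symm
      exact_mod_cast h'
    have h2 := VarDim.deg_eq_add π q hπ (genericPoint X)
    rw [hξ, hdB, h1] at h2
    have h3 : VarDim.fdeg π (genericPoint X) = 1 := by omega
    rw [h3]
    rfl
  exact (exists_iso_line (B.residueField η) hC (π.fiber η) hdim hgen).2

theorem exists_section [IsIntegral X] [IsIntegral B] [IsProper p] [IsProper q] [Smooth q]
    (hπ : π ≫ q = p) (hB1 : topologicalKrullDim B = 1)
    (e : π.fiber (genericPoint B) ≅ CohB1.ProjSpace 1 (B.residueField (genericPoint B)))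
    (he : e.hom ≫ CohB1.ProjSpace.toSpec 1 (B.residueField (genericPoint B)) =
        π.fiberToSpecResidueField (genericPoint B)) :
    ∃ σ : B ⟶ X, σ ≫ π = 𝟙 B := by
  haveI : IsProper π := by
    haveI : IsProper (π ≫ q) := hπ ▸ inferInstance
    exact IsProper.of_comp π q
  haveI := isIso_specMap_residue B
  obtain ⟨s, hs⟩ := CurveEmbed.exists_point 1 (B.residueField (genericPoint B))
  let φ : Spec (B.presheaf.stalk (genericPoint B)) ⟶ X :=
    inv (Spec.map (B.residue (genericPoint B))) ≫ s ≫ e.inv ≫ π.fiberι (genericPoint B)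
  have hφ : φ ≫ π = B.fromSpecStalk (genericPoint B) ≫ 𝟙 B := by
    have h1 : e.inv ≫ π.fiberι (genericPoint B) ≫ π =
        CohB1.ProjSpace.toSpec 1 (B.residueField (genericPoint B)) ≫ B.fromSpecResidueField (genericPoint B) := by
      rw [π.fiber_fac, Iso.inv_comp_eq, ← Category.assoc, he]
    simp only [φ, Category.assoc]
    rw [h1, reassoc_of% hs, Category.comp_id, IsIso.inv_comp_eq]
    rfl
  obtain ⟨U, hU, f, -, hf⟩ := spread_out_of_isGermInjective' (𝟙 B) π φ hφ
  haveI : IsLocallyNoetherian B := LocallyOfFiniteType.isLocallyNoetherian q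
  have hdimle : ∀ y : B, ringKrullDim (B.presheaf.stalk y) ≤ 1 := fun y =>
    (CurveCohLib.ringKrullDim_stalk_le_topologicalKrullDim y).trans hB1.le
  have hdense : Dense (U : Set B) := U.2.dense ⟨_, hU⟩
  obtain ⟨V, -, g, hg, -, hV⟩ := CodimExt16.exists_extension
    (fun y _ => SmoothReg.isRegularLocalRing_stalk_of_mem_smoothLocus q (by
      rw [Scheme.Hom.smoothLocus_eq_top]; trivial)) π π.isClosedMap U hdense f
    (hf.trans (Category.comp_id _))
  obtain rfl : V = ⊤ := top_le_iff.1 fun y _ => hV y (hdimle y)
  refine ⟨(Scheme.topIso B).inv ≫ g, ?_⟩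
  rw [Category.assoc, hg, ← Scheme.topIso_hom, Iso.inv_hom_id]

theorem isIso_stalkMap_fiberι [IsIntegral B] (f : X ⟶ B) (z : f.fiber (genericPoint B)) :
    IsIso ((f.fiberι (genericPoint B)).stalkMap z) := by
  haveI := isIso_specMap_residue B
  haveI : Flat (B.fromSpecResidueField (genericPoint B)) := by
    haveI := GrpSchLib.flat_fromSpecStalk (genericPoint B)
    exact inferInstanceAs (Flat (Spec.map (B.residue (genericPoint B)) ≫ B.fromSpecStalk (genericPoint B)))
  haveI : Flat (f.fiberι (genericPoint B)) := MorphismProperty.pullback_fst _ _ inferInstance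
  exact H23.FFDescent.isIso_stalkMap_of_flat_of_isPreimmersion (f.fiberι (genericPoint B)) z

theorem exists_iso_open [IsIntegral X] [IsIntegral B] [IsProper p] [IsProper q]
    (hπ : π ≫ q = p)
    (e : π.fiber (genericPoint B) ≅ CohB1.ProjSpace 1 (B.residueField (genericPoint B)))
    (he : e.hom ≫ CohB1.ProjSpace.toSpec 1 (B.residueField (genericPoint B)) =
        π.fiberToSpecResidueField (genericPoint B)) :
    ∃ (U : X.Opens) (W : (pullback q (CohB1.ProjSpace.toSpec 1 k)).Opens)
      (e : (U : Scheme.{u}) ≅ (W : Scheme.{u})),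
      (U : Set X).Nonempty ∧ e.hom ≫ W.ι ≫ pullback.fst q (CohB1.ProjSpace.toSpec 1 k) = U.ι ≫ π := by
  haveI : IsLocallyNoetherian B := LocallyOfFiniteType.isLocallyNoetherian q
  haveI : IsProper π := by
    haveI : IsProper (π ≫ q) := hπ ▸ inferInstance
    exact IsProper.of_comp π q
  haveI : IsProper (CohB1.ProjSpace.toSpec 1 k) := PnCoh.Chow.isProper_toSpec 1 k
  let P := pullback q (CohB1.ProjSpace.toSpec 1 k)
  let r : P ⟶ B := pullback.fst q (CohB1.ProjSpace.toSpec 1 k)
  haveI : LocallyOfFinitePresentation π := LocallyOfFinitePresentation.iff_locallyOfFiniteType.2 inferInstance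
  haveI : IsProper r := MorphismProperty.pullback_fst _ _ inferInstance
  haveI : LocallyOfFinitePresentation r := LocallyOfFinitePresentation.iff_locallyOfFiniteType.2 inferInstance
  let η := genericPoint B
  obtain ⟨g, hg⟩ := Genus0Family.exists_isPullback_projSpace 1 (A := k) (B := B.residueField η)
    (B.fromSpecResidueField η ≫ q)
  have h1 : IsPullback (r.fiberι η ≫ pullback.snd q (CohB1.ProjSpace.toSpec 1 k)) (r.fiberToSpecResidueField η)
      (CohB1.ProjSpace.toSpec 1 k) (B.fromSpecResidueField η ≫ q) :=
    (IsPullback.of_hasPullback r (B.fromSpecResidueField η)).paste_horiz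
      (IsPullback.of_hasPullback q (CohB1.ProjSpace.toSpec 1 k)).flip
  let d := hg.isoIsPullback _ _ h1
  let v : π.fiber η ⟶ P := (e.hom ≫ d.hom) ≫ r.fiberι η
  have hv : v ≫ r = π.fiberι η ≫ π := by
    rw [π.fiber_fac]
    simp only [v, Category.assoc, r.fiber_fac]
    rw [← Category.assoc d.hom, hg.isoIsPullback_hom_snd, ← Category.assoc, he]
  obtain ⟨z⟩ : Nonempty (π.fiber η) := by
    obtain ⟨s, -⟩ := CurveEmbed.exists_point 1 (B.residueField η)
    exact ⟨e.inv (s (IsLocalRing.closedPoint _))⟩
  haveI := isIso_stalkMap_fiberι π z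
  haveI : IsIso (v.stalkMap z) := by
    haveI := isIso_stalkMap_fiberι r ((e.hom ≫ d.hom) z)
    rw [Scheme.Hom.stalkMap_comp]
    infer_instance
  have hb : π (π.fiberι η z) = r (v z) := by
    rw [← Scheme.Hom.comp_apply, ← Scheme.Hom.comp_apply, hv]
  obtain ⟨U, hU, W, f, hf, -, hfS⟩ := S10854.result π r hb (v.stalkMap z ≫ inv ((π.fiberι η).stalkMap z)) (by
    rw [← cancel_mono ((π.fiberι η).stalkMap z), Category.assoc, Category.assoc, IsIso.inv_hom_id,
      Category.comp_id, Category.assoc]
    have a1 := Scheme.Hom.stalkMap_comp v r z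
    have a2 := Scheme.Hom.stalkMap_comp (π.fiberι η) π z
    rw [← a1, ← a2]
    exact Scheme.Hom.stalkMap_congr_hom _ _ hv z)
  haveI := hf
  exact ⟨U, W, asIso f, ⟨_, hU⟩, hfS⟩

end Groth.Agent.ConicPt
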