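import Groth.Agent.VarDim.Proj
import Mathlib.Algebra.MvPolynomial.NoZeroDivisors
import Mathlib.RingTheory.MvPolynomial.Homogeneous
import Groth.Prelude.Def_Curves

/-!
# Height one homogeneous primes with a quadric over a C₁ field
-/

set_option autoImplicit false
set_option linter.style.haveILetI false
set_option linter.unusedSectionVars false
set_option maxHeartbeats 1000000
set_option synthInstance.maxHeartbeats 400000

universe u

open MvPolynomial Order

noncomputable section

namespace Groth.Agent.ConicPt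

variable {k : Type u} [Field k]

/-- A chain `⊥ < Q < P < R < vertex` does not fit into a cone over the plane. -/
theorem eq_of_le_of_lt {P : Ideal (MvPolynomial (Fin (2 + 1)) k)}
    {R V : PrimeSpectrum (MvPolynomial (Fin (2 + 1)) k)} (hP : P.IsPrime) (h1 : P < R.asIdeal) (h2 : R < V)
    {Q : Ideal (MvPolynomial (Fin (2 + 1)) k)} (hQ : Q.IsPrime) (hne : Q ≠ ⊥) (hle : Q ≤ P) : Q = P := by
  by_contra hQP
  let p : LTSeries (PrimeSpectrum (MvPolynomial (Fin (2 + 1)) k)) :=
    ⟨4, ![⟨⊥, Ideal.isPrime_bot⟩, ⟨Q, hQ⟩, ⟨P, hP⟩, R, V], fun i => by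
      fin_cases i
      · exact (show (⊥ : Ideal (MvPolynomial (Fin (2 + 1)) k)) < Q from bot_lt_iff_ne_bot.2 hne)
      · exact (show Q < P from lt_of_le_of_ne hle hQP)
      · exact h1
      · exact h2⟩
  have h := LTSeries.length_le_krullDim p
  have hd : ringKrullDim (MvPolynomial (Fin (2 + 1)) k) = ((3 : ℕ) : WithBot ℕ∞) := by
    rw [MvPolynomial.ringKrullDim_of_isNoetherianRing, ringKrullDim_eq_zero_of_field, zero_add, Nat.card_fin]
  have h' : ((4 : ℕ) : WithBot ℕ∞) ≤ ((3 : ℕ) : WithBot ℕ∞) := h.trans_eq hd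
  exact absurd (Nat.cast_le.1 h') (by norm_num)

/-- A homogeneous prime of height at most one containing a quadric is generated by a form of degree at most two. -/
theorem exists_generator {P : Ideal (MvPolynomial (Fin (2 + 1)) k)} (hP : P.IsPrime)
    (hhom : P.IsHomogeneous (CohB1.polyGrading 2 k))
    (hht : ∀ Q : Ideal (MvPolynomial (Fin (2 + 1)) k), Q.IsPrime → Q ≠ ⊥ → Q ≤ P → Q = P)
    {q : MvPolynomial (Fin (2 + 1)) k} (hq : q ∈ P) (hq2 : q.IsHomogeneous 2) (hq0 : q ≠ 0) :
    ∃ r : MvPolynomial (Fin (2 + 1)) k, r ≠ 0 ∧ Ideal.span {r} = P ∧ r.IsHomogeneous r.totalDegree ∧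
      0 < r.totalDegree ∧ r.totalDegree ≤ 2 := by
  obtain ⟨r, hrP, hr⟩ := hP.exists_mem_prime_of_ne_bot fun h => hq0 (by simpa [h] using hq)
  have hPr : Ideal.span {r} = P := hht _ ((Ideal.span_singleton_prime hr.ne_zero).2 hr)
    (by simpa using hr.ne_zero) ((Ideal.span_singleton_le_iff_mem _).2 hrP)
  obtain ⟨t, ht⟩ : r ∣ q := Ideal.mem_span_singleton.1 (hPr.ge hq)
  have ht0 : t ≠ 0 := fun h => hq0 (by rw [ht, h, mul_zero])
  have hdeg : r.totalDegree ≤ 2 := by
    have := totalDegree_mul_of_isDomain hr.ne_zero ht0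
    rw [← ht, hq2.totalDegree hq0] at this
    omega
  have hrh : r.IsHomogeneous r.totalDegree := by
    have key : ∀ i, i ≠ r.totalDegree → homogeneousComponent i r = 0 := by
      intro i hi
      rcases lt_or_gt_of_ne hi with h | h
      · by_contra h0
        have hc : homogeneousComponent i r ∈ P := by
          have := hhom i hrP
          rwa [show ((DirectSum.decompose (CohB1.polyGrading 2 k) r) i : MvPolynomial (Fin (2 + 1)) k) =
            homogeneousComponent i r from MvPolynomial.decomposition.decompose'_apply r i] at this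
        obtain ⟨c, hc'⟩ : r ∣ homogeneousComponent i r := Ideal.mem_span_singleton.1 (hPr.ge hc)
        have hc0 : c ≠ 0 := fun h' => h0 (by rw [hc', h', mul_zero])
        have := totalDegree_mul_of_isDomain hr.ne_zero hc0
        rw [← hc', (homogeneousComponent_isHomogeneous i r).totalDegree h0] at this
        omega
      · exact homogeneousComponent_eq_zero _ _ h
    have hs := sum_homogeneousComponent r
    rw [Finset.sum_eq_single r.totalDegree (fun i _ hi => key i hi)
      (fun h => absurd (Finset.mem_range.2 (Nat.lt_succ_self _)) h)] at hs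
    have h := homogeneousComponent_isHomogeneous r.totalDegree r
    rwa [hs] at h
  have hpos : 0 < r.totalDegree := by
    refine Nat.pos_of_ne_zero fun h => hr.not_isUnit ?_
    rw [totalDegree_eq_zero_iff_eq_C.1 h] at hr ⊢
    exact (isUnit_iff_ne_zero.2 fun h0 => hr.ne_zero (by rw [h0, map_zero])).map C
  exact ⟨r, hr.ne_zero, hPr, hrh, hpos, hdeg⟩

/-- A homogeneous prime of height at most one containing a quadric has a nonzero zero. -/
theorem exists_zero (hC : Curves.IsCr k 1) {P : Ideal (MvPolynomial (Fin (2 + 1)) k)} (hP : P.IsPrime)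
    (hhom : P.IsHomogeneous (CohB1.polyGrading 2 k))
    (hht : ∀ Q : Ideal (MvPolynomial (Fin (2 + 1)) k), Q.IsPrime → Q ≠ ⊥ → Q ≤ P → Q = P)
    {q : MvPolynomial (Fin (2 + 1)) k} (hq : q ∈ P) (hq2 : q.IsHomogeneous 2) (hq0 : q ≠ 0) :
    ∃ a : Fin (2 + 1) → k, a ≠ 0 ∧ ∀ p ∈ P, eval a p = 0 := by
  obtain ⟨r, -, hPr, hrh, hpos, hdeg⟩ := exists_generator hP hhom hht hq hq2 hq0
  obtain ⟨a, ha, hz⟩ := hC (2 + 1) r.totalDegree r hrh hpos (by rw [pow_one]; omega)
  refine ⟨a, ha, fun p hp => ?_⟩
  obtain ⟨c, rfl⟩ : r ∣ p := Ideal.mem_span_singleton.1 (hPr.ge hp)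
  rw [map_mul, hz, zero_mul]

end Groth.Agent.ConicPt
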