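import Groth.Agent.ConicPt.Forms
import Groth.Agent.LefPenLib.Hyp
import Groth.Agent.LefPenLib.Elim
import Groth.Agent.CurveEmbed.Points
import Groth.Agent.S10829
import Groth.Agent.H23.RedSub

/-!
# A plane curve of genus zero over a C₁ field has a rational point
-/

set_option autoImplicit false
set_option linter.style.haveILetI false
set_option linter.unusedSectionVars false
set_option maxHeartbeats 1000000
set_option synthInstance.maxHeartbeats 400000
set_option backward.isDefEq.respectTransparency false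
set_option backward.isDefEq.respectTransparency.types false

universe u

open CategoryTheory CategoryTheory.Limits AlgebraicGeometry TopologicalSpace Opposite

noncomputable section

namespace Groth.Agent.ConicPt

open Groth.Agent Groth.Agent.VarDim.ProjN

variable {n : ℕ} {k : Type u} [Field k]

local notation "𝒜" => CohB1.polyGrading n k

/-- The chart element of a form is its dehomogenisation. -/
theorem isLocalizationElem_eq {d : ℕ} (G : LefPen.Form n k d) (i : Fin (n + 1)) :
    HomogeneousLocalization.Away.isLocalizationElem (ZetaLib.X_mem_one n k i) G.2 = ZetaLib.dehom n k i G.1 := by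
  refine HomogeneousLocalization.val_injective _ ?_
  have h := ZetaLib.val_dehom_mul n k i ((MvPolynomial.mem_homogeneousSubmodule d _).1 G.2)
  have hu : IsUnit (algebraMap (MvPolynomial (Fin (n + 1)) k)
      (Localization (Submonoid.powers (MvPolynomial.X i : MvPolynomial (Fin (n + 1)) k))) (MvPolynomial.X i) ^ d) :=
    (IsLocalization.map_units _ (⟨MvPolynomial.X i, 1, pow_one _⟩ :
      Submonoid.powers (MvPolynomial.X i : MvPolynomial (Fin (n + 1)) k))).pow d
  refine hu.mul_left_injective (Eq.trans ?_ h.symm)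
  dsimp only
  rw [HomogeneousLocalization.Away.isLocalizationElem, HomogeneousLocalization.Away.val_mk, ← map_pow,
    ← Localization.mk_one_eq_algebraMap, ← Localization.mk_one_eq_algebraMap, Localization.mk_mul,
    Localization.mk_eq_mk_iff, Localization.r_iff_exists]
  exact ⟨1, by simp [mul_comm]⟩

/-- The locus where a form does not vanish, in a chart. -/
theorem basicOpen_dehom {d : ℕ} (hd : 0 < d) (G : LefPen.Form n k d) (i : Fin (n + 1)) :
    (CohB1.ProjSpace n k).basicOpen (LefPen.dehom G i) = LefPen.chart n k i ⊓ Proj.basicOpen 𝒜 G.1 := by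
  rw [LefPenLib.dehom_eq]
  set s := (Proj.awayToSection 𝒜 (MvPolynomial.X i)).hom (ZetaLib.dehom n k i G.1)
  have h1 : Proj.awayι 𝒜 (MvPolynomial.X i) (LefPen.X_mem n k i) Nat.one_pos ⁻¹ᵁ Proj.basicOpen 𝒜 G.1 =
      PrimeSpectrum.basicOpen (HomogeneousLocalization.Away.isLocalizationElem (LefPen.X_mem n k i) G.2) :=
    Proj.awayι_preimage_basicOpen 𝒜 (LefPen.X_mem n k i) Nat.one_pos G.2 hd
  have h2 : HomogeneousLocalization.Away.isLocalizationElem (LefPen.X_mem n k i) G.2 = ZetaLib.dehom n k i G.1 :=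
    isLocalizationElem_eq G i
  let D := LefPen.chart n k i
  let e := Proj.basicOpenIsoSpec 𝒜 (MvPolynomial.X i) (LefPen.X_mem n k i) Nat.one_pos
  have hι : D.ι = e.hom ≫ Proj.awayι 𝒜 (MvPolynomial.X i) (LefPen.X_mem n k i) Nat.one_pos :=
    (Iso.hom_inv_id_assoc e D.ι).symm
  have h3 : D.ι ⁻¹ᵁ Proj.basicOpen 𝒜 G.1 = D.ι ⁻¹ᵁ (CohB1.ProjSpace n k).basicOpen s := by
    conv_lhs => rw [hι, Scheme.Hom.comp_preimage, h1, h2]
    rw [← Scheme.Opens.toSpecΓ_preimage_basicOpen]
    rfl
  have h4 := congrArg (fun U => D.ι ''ᵁ U) h3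
  simp only [Scheme.Hom.image_preimage_eq_opensRange_inf, Scheme.Opens.opensRange_ι] at h4
  rw [h4]
  exact (inf_eq_right.2 ((CohB1.ProjSpace n k).basicOpen_le s)).symm

/-- A point of the hypersurface of a form: the form lies in its prime. -/
theorem mem_of_mem_support {d : ℕ} (hd : 0 < d) (G : LefPen.Form n k d) {y : CohB1.ProjSpace n k}
    (hy : y ∈ (LefPen.hypIdeal G).support) : G.1 ∈ (pp y).asIdeal := by
  obtain ⟨i, hi⟩ := Opens.mem_iSup.1 ((LefPenLib.iSup_chart (r := n) (k := k)).ge (Set.mem_univ y))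
  have h := ((LefPen.hypIdeal G).coe_support_inter (LefPenLib.chartAff i)).le ⟨hy, hi⟩
  have h2 := (Scheme.mem_zeroLocus_iff (CohB1.ProjSpace n k) _ _).1 h.1 (LefPen.dehom G i)
    (by rw [LefPenLib.hypIdeal_chart]; exact Ideal.mem_span_singleton_self _)
  by_contra hG
  exact h2 ((basicOpen_dehom hd G i).ge ⟨hi, hG⟩)

/-- A form vanishing at a vector lies in the prime of the point. -/
theorem mem_pointAt_ext {K : Type u} [Field K] [Algebra k K] {d : ℕ} (hd : 0 < d) (G : LefPen.Form n k d)
    (i : Fin (n + 1)) (v : Fin (n + 1) → K) (hv : v i = 1) (hG : MvPolynomial.aeval v G.1 = 0) :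
    G.1 ∈ (pp (ZetaLib.pointAt (K := K) i v hv (IsLocalRing.closedPoint K))).asIdeal := by
  by_contra hy
  have h : IsLocalRing.closedPoint K ∈ Spec.map (CommRingCat.ofHom (ZetaLib.evalAt (K := K) i v hv)) ⁻¹ᵁ
      (Proj.awayι 𝒜 (MvPolynomial.X i) (ZetaLib.X_mem_one n k i) Nat.one_pos ⁻¹ᵁ Proj.basicOpen 𝒜 G.1) := hy
  rw [Proj.awayι_preimage_basicOpen 𝒜 (ZetaLib.X_mem_one n k i) Nat.one_pos G.2 hd] at h
  have h' : ZetaLib.evalAt (K := K) i v hv (HomogeneousLocalization.Away.isLocalizationElem
      (ZetaLib.X_mem_one n k i) G.2) ∉ IsLocalRing.maximalIdeal K := h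
  have he : (ZetaLib.evalAt (K := K) i v hv).comp (ZetaLib.dehom n k i) =
      (MvPolynomial.aeval v : MvPolynomial (Fin (n + 1)) k →ₐ[k] K).toRingHom := by
    refine MvPolynomial.ringHom_ext (fun c => ?_) fun j => ?_
    · rw [RingHom.comp_apply, ZetaLib.dehom, MvPolynomial.eval₂Hom_C]
      exact (RingHom.congr_fun (ZetaLib.evalAt_base (K := K) i v hv) c).trans (MvPolynomial.aeval_C v c).symm
    · rw [RingHom.comp_apply, ZetaLib.dehom, MvPolynomial.eval₂Hom_X']
      exact (ZetaLib.evalAt_coord (K := K) i v hv j).trans (MvPolynomial.aeval_X v j).symm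
  rw [isLocalizationElem_eq, ← RingHom.comp_apply, he] at h'
  exact h' (by rw [show (MvPolynomial.aeval v).toRingHom G.1 = 0 from hG]; exact Ideal.zero_mem _)

/-- A form vanishing at a rational vector lies in the prime of the point. -/
theorem mem_pointAt {d : ℕ} (hd : 0 < d) (G : LefPen.Form n k d) (i : Fin (n + 1)) (v : Fin (n + 1) → k)
    (hv : v i = 1) (hG : MvPolynomial.eval v G.1 = 0) :
    G.1 ∈ (pp (ZetaLib.pointAt (K := k) i v hv (IsLocalRing.closedPoint k))).asIdeal :=
  mem_pointAt_ext hd G i v hv (by rw [← MvPolynomial.aeval_eq_eval] at hG; exact hG)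

theorem pointAt_toSpec (i : Fin (n + 1)) (v : Fin (n + 1) → k) (hv : v i = 1) :
    ZetaLib.pointAt (K := k) i v hv ≫ CohB1.ProjSpace.toSpec n k = 𝟙 _ := by
  rw [ZetaLib.pointAt, Category.assoc, ZetaLib.chart_toSpec, ← Spec.map_comp, ← CommRingCat.ofHom_comp,
    ZetaLib.evalAt_base]
  exact Spec.map_id _

/-- An integral curve in the plane lying on a conic over a C₁ field has a rational point. -/
theorem exists_point (hC : Curves.IsCr k 1) {X : Scheme.{u}} [X.Over (Spec (CommRingCat.of k))] [IsIntegral X]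
    [IsProper (X ↘ Spec (CommRingCat.of k))] (hdim : topologicalKrullDim X = 1)
    (i : X ⟶ CohB1.ProjSpace 2 k) [IsClosedImmersion i]
    (hi : i ≫ CohB1.ProjSpace.toSpec 2 k = X ↘ Spec (CommRingCat.of k))
    (q : LefPen.Form 2 k 2) (hq : q ≠ 0) (hle : LefPen.hypIdeal q ≤ i.ker) :
    ∃ s : Spec (CommRingCat.of k) ⟶ X, s ≫ (X ↘ Spec (CommRingCat.of k)) = 𝟙 _ := by
  let η := i (genericPoint X)
  have hsup : η ∈ (LefPen.hypIdeal q).support :=
    Scheme.IdealSheafData.support_antitone hle (i.range_subset_ker_support ⟨genericPoint X, rfl⟩)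
  have hqη := mem_of_mem_support (by norm_num) q hsup
  obtain ⟨c, hc⟩ : ∃ c : X, IsClosed ({c} : Set X) := by
    haveI : JacobsonSpace X := LocallyOfFiniteType.jacobsonSpace (X ↘ Spec (CommRingCat.of k))
    obtain ⟨x, -, hx⟩ := nonempty_inter_closedPoints (Set.univ_nonempty (α := X)) isClosed_univ.isLocallyClosed
    exact ⟨x, hx⟩
  have hne : i (genericPoint X) ≠ i c := fun h =>
    CurveEmbed.genericPoint_not_closed hdim (by
      rw [i.isClosedEmbedding.injective h]; exact hc)
  have hlt : (pp η).asIdeal < (pp (i c)).asIdeal := by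
    refine lt_of_le_of_ne (pp_le_pp.2 ?_) fun h => hne (pp_injective (PrimeSpectrum.ext h))
    exact (ProjectiveSpectrum.le_iff_mem_closure _ _ _).2
      (specializes_iff_mem_closure.1 ((genericPoint_specializes c).map i.continuous))
  have hP : (pp η).asIdeal.IsPrime := (pp η).2
  obtain ⟨a, ha, hz⟩ := exists_zero hC hP (isHomogeneous_pp η)
    (fun Q hQ hQ0 hQle => eq_of_le_of_lt hP hlt (pp_lt_vertexPoint (i c)) hQ hQ0 hQle)
    hqη ((MvPolynomial.mem_homogeneousSubmodule 2 _).1 q.2) (fun h => hq (Subtype.ext h))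
  obtain ⟨j, hj⟩ : ∃ j, a j ≠ 0 := Function.ne_iff.1 ha
  let v : Fin (2 + 1) → k := fun l => (a j)⁻¹ * a l
  have hv : v j = 1 := inv_mul_cancel₀ hj
  let p := ZetaLib.pointAt (k := k) (K := k) (n := 2) j v hv
  have hmem : p (IsLocalRing.closedPoint k) ∈ Set.range i := by
    have hle' : (pp η).asIdeal ≤ (pp (p (IsLocalRing.closedPoint k))).asIdeal := by
      intro x hxP
      rw [← MvPolynomial.sum_homogeneousComponent x]
      refine Ideal.sum_mem _ fun d _ => ?_
      have hxd : MvPolynomial.homogeneousComponent d x ∈ (pp η).asIdeal := by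
        have := isHomogeneous_pp η d hxP
        rwa [proj_apply] at this
      rcases Nat.eq_zero_or_pos d with rfl | hd
      · rw [MvPolynomial.homogeneousComponent_zero] at hxd ⊢
        rcases eq_or_ne (MvPolynomial.coeff 0 x) 0 with h0 | h0
        · rw [h0, map_zero]
          exact Ideal.zero_mem _
        · exact absurd (Ideal.eq_top_of_isUnit_mem _ hxd ((isUnit_iff_ne_zero.2 h0).map MvPolynomial.C)) hP.ne_top
      · refine mem_pointAt hd ⟨_, MvPolynomial.homogeneousComponent_mem d x⟩ j v hv ?_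
        refine (LefPenLib.eval_smul_of_isHomogeneous (MvPolynomial.homogeneousComponent_isHomogeneous d x) _ a).trans ?_
        rw [hz _ hxd, mul_zero]
    exact i.isClosedEmbedding.isClosed_range.closure_subset_iff.2 (Set.singleton_subset_iff.2 ⟨_, rfl⟩)
      ((ProjectiveSpectrum.le_iff_mem_closure _ _ _).1 (pp_le_pp.1 hle'))
  haveI : IsReduced (Spec (CommRingCat.of k)) := inferInstance
  obtain ⟨s, hs⟩ := H23.RedSub.exists_lift p i (by
    rintro _ ⟨x, rfl⟩
    obtain rfl : x = IsLocalRing.closedPoint k := Subsingleton.elim _ _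
    exact hmem)
  refine ⟨s, ?_⟩
  rw [← hi, ← Category.assoc, hs]
  exact pointAt_toSpec j v hv

end Groth.Agent.ConicPt
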