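import Groth.Agent.ConicPt.Forms
import Mathlib.FieldTheory.Separable
import Mathlib.FieldTheory.PrimitiveElement
import Mathlib.FieldTheory.SeparableDegree
import Mathlib.RingTheory.AdjoinRoot
import Mathlib.Algebra.Polynomial.SpecificDegree

/-!
# Zeros of plane quadrics in separable extensions of degree at most two
-/

set_option autoImplicit false
set_option linter.style.haveILetI false
set_option linter.unusedSectionVars false
set_option maxHeartbeats 1000000
set_option synthInstance.maxHeartbeats 400000

universe u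

open MvPolynomial

noncomputable section

namespace Groth.Agent.ConicPt

variable {k : Type u} [Field k] {n : ℕ}

/-- A root of a separable irreducible polynomial generates a separable extension. -/
theorem isSeparable_adjoinRoot (p : Polynomial k) [Fact (Irreducible p)] (hp : p.Separable) :
    Algebra.IsSeparable k (AdjoinRoot p) := by
  have hp0 : p ≠ 0 := (Fact.out (p := Irreducible p)).ne_zero
  have h : IsSeparable k (AdjoinRoot.root p) := by
    unfold IsSeparable
    rw [AdjoinRoot.minpoly_root hp0]
    exact hp.mul_unit (Polynomial.isUnit_C.2 (by simp [hp0]))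
  have := (IntermediateField.isSeparable_adjoin_simple_iff_isSeparable k (AdjoinRoot p)).2 h
  rw [IntermediateField.adjoin_root_eq_top] at this
  exact AlgEquiv.Algebra.isSeparable IntermediateField.topEquiv

/-- Evaluation of a linear form. -/
theorem exists_linear {r : MvPolynomial (Fin n) k} (hr : r.IsHomogeneous 1) :
    ∃ c : Fin n → k, ∀ (A : Type u) [CommRing A] [Algebra k A] (x : Fin n → A),
      aeval x r = ∑ i, algebraMap k A (c i) * x i := by
  have h : r ∈ Submodule.span k (Set.range (X : Fin n → MvPolynomial (Fin n) k)) :=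
    homogeneousSubmodule_one_eq_span_X.le hr
  obtain ⟨c, hc⟩ := (Submodule.mem_span_range_iff_exists_fun k).1 h
  refine ⟨c, fun A _ _ x => ?_⟩
  simp [← hc, map_sum, Algebra.smul_def]

/-- Evaluation of a quadratic form. -/
theorem exists_bilin {r : MvPolynomial (Fin n) k} (hr : r.IsHomogeneous 2) :
    ∃ M : Fin n → Fin n → k, ∀ (A : Type u) [CommRing A] [Algebra k A] (x : Fin n → A),
      aeval x r = ∑ i, ∑ j, algebraMap k A (M i j) * (x i * x j) := by
  have h : r ∈ Submodule.span k (Set.range fun e : Fin n × Fin n => (X e.1 * X e.2 : MvPolynomial (Fin n) k)) := by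
    have h2 : r ∈ homogeneousSubmodule (Fin n) k 1 ^ 2 := (homogeneousSubmodule_one_pow (σ := Fin n) (R := k) (n := 2)).ge hr
    rw [homogeneousSubmodule_one_eq_span_X, pow_two, Submodule.span_mul_span] at h2
    refine Submodule.span_mono ?_ h2
    rintro _ ⟨_, ⟨i, rfl⟩, _, ⟨j, rfl⟩, rfl⟩
    exact ⟨(i, j), rfl⟩
  obtain ⟨c, hc⟩ := (Submodule.mem_span_range_iff_exists_fun k).1 h
  refine ⟨fun i j => c (i, j), fun A _ _ x => ?_⟩
  simp [← hc, map_sum, Algebra.smul_def, Fintype.sum_prod_type]

/-- A linear form in three variables has a nonzero zero. -/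
theorem exists_linear_zero {r : MvPolynomial (Fin (2 + 1)) k} (hr : r.IsHomogeneous 1) :
    ∃ a : Fin (2 + 1) → k, a ≠ 0 ∧ eval a r = 0 := by
  obtain ⟨c, hc⟩ := exists_linear hr
  let φ : (Fin (2 + 1) → k) →ₗ[k] k := ∑ i, c i • LinearMap.proj i
  have hφ : LinearMap.ker φ ≠ ⊥ := fun h => by
    have := LinearMap.finrank_le_finrank_of_injective (LinearMap.ker_eq_bot.1 h)
    simp at this
  obtain ⟨a, ha, ha0⟩ := Submodule.exists_mem_ne_zero_of_ne_bot hφ
  refine ⟨a, ha0, ?_⟩
  refine Eq.trans ?_ (LinearMap.mem_ker.1 ha)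
  rw [← aeval_eq_eval, hc]
  simp [φ]

/-- A quadratic form has a nontrivial zero in a separable extension of degree at most two, or is a
diagonal form in characteristic two with nonzero coefficients. -/
theorem exists_zero_sep {r : MvPolynomial (Fin (2 + 1)) k} (hr : r.IsHomogeneous 2) :
    (∃ (K : Type u) (_ : Field K) (_ : Algebra k K), FiniteDimensional k K ∧ Algebra.IsSeparable k K ∧
      Module.finrank k K ≤ 2 ∧ ∃ (j : Fin (2 + 1)) (a : Fin (2 + 1) → K), a j = 1 ∧ aeval a r = 0) ∨
    ((2 : k) = 0 ∧ ∃ c : Fin (2 + 1) → k, (∀ i, c i ≠ 0) ∧ ∀ (A : Type u) [CommRing A] [Algebra k A]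
      (x : Fin (2 + 1) → A), aeval x r = ∑ i, algebraMap k A (c i) * (x i * x i)) := by
  classical
  obtain ⟨M, hM⟩ := exists_bilin hr
  by_cases h0 : ∃ i, M i i = 0
  · obtain ⟨i, hi⟩ := h0
    refine .inl ⟨k, inferInstance, inferInstance, inferInstance, inferInstance, by simp, i,
      Pi.single i 1, Pi.single_eq_same i 1, ?_⟩
    rw [hM, Finset.sum_eq_single i, Finset.sum_eq_single i]
    · simp [hi]
    all_goals simp +contextual [Pi.single_eq_of_ne]
  simp only [not_exists] at h0
  by_cases h2 : ∃ i j, i ≠ j ∧ (2 * M j j ≠ 0 ∨ M i j + M j i ≠ 0)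
  · obtain ⟨i, j, hij, hd⟩ := h2
    let h : Polynomial k := Polynomial.C (M j j) * Polynomial.X ^ 2 +
      Polynomial.C (M i j + M j i) * Polynomial.X + Polynomial.C (M i i)
    have hdeg : h.natDegree = 2 := Polynomial.natDegree_quadratic (h0 j)
    have hne : h ≠ 0 := fun hh => by rw [hh] at hdeg; simp at hdeg
    have key : ∀ (K : Type u) [Field K] [Algebra k K] (t : K), Polynomial.aeval t h = 0 →
        aeval (fun l => (Pi.single i 1 : Fin (2 + 1) → K) l + (Pi.single j t : Fin (2 + 1) → K) l) r = 0 := by
      intro K _ _ t ht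
      rw [hM, Finset.sum_eq_add i j hij, Finset.sum_eq_add i j hij, Finset.sum_eq_add i j hij]
      · simp only [Pi.single_eq_same, Pi.single_eq_of_ne hij, Pi.single_eq_of_ne hij.symm, h, map_add, map_mul,
          Polynomial.aeval_C, Polynomial.aeval_X, map_pow] at ht ⊢
        linear_combination ht
      all_goals simp +contextual [Pi.single_eq_of_ne]
    have ha : ∀ (K : Type u) [Field K] (t : K),
        (fun l => (Pi.single i 1 : Fin (2 + 1) → K) l + (Pi.single j t : Fin (2 + 1) → K) l) i = 1 :=
      fun K _ t => by simp [Pi.single_eq_of_ne hij]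
    rcases eq_or_ne h.roots 0 with hroot | hroot
    · haveI : Fact (Irreducible h) := ⟨(Polynomial.irreducible_iff_roots_eq_zero_of_degree_le_three
        hdeg.ge (hdeg.le.trans (by norm_num))).2 hroot⟩
      have hsep : h.Separable := by
        rw [Polynomial.separable_iff_derivative_ne_zero Fact.out]
        intro hh
        have e1 := congrArg (fun p => Polynomial.coeff p 1) hh
        have e0 := congrArg (fun p => Polynomial.coeff p 0) hh
        simp [h] at e1 e0
        rcases hd with hd | hd
        · exact hd (mul_eq_zero.2 (.inl (by linear_combination e1.resolve_left (h0 j))))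
        · exact hd e0
      refine .inl ⟨AdjoinRoot h, inferInstance, inferInstance, (AdjoinRoot.powerBasis hne).finite,
        isSeparable_adjoinRoot h hsep, ?_, i, _, ha _ (AdjoinRoot.root h), key _ _ ?_⟩
      · rw [(AdjoinRoot.powerBasis hne).finrank, AdjoinRoot.powerBasis_dim, hdeg]
      · rw [AdjoinRoot.aeval_eq, AdjoinRoot.mk_self]
    · obtain ⟨t, ht⟩ := Multiset.exists_mem_of_ne_zero hroot
      refine .inl ⟨k, inferInstance, inferInstance, inferInstance, inferInstance, by simp, i, _, ha _ t,
        key _ _ ?_⟩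
      exact (Polynomial.mem_roots hne).1 ht
  · simp only [not_exists, not_and, not_or, not_not] at h2
    have two : (2 : k) = 0 := (mul_eq_zero.1 (h2 1 0 (by decide)).1).resolve_right (h0 0)
    refine .inr ⟨two, fun i => M i i, h0, fun A _ _ x => ?_⟩
    have twoA : (2 : A) = 0 := by rw [← map_ofNat (algebraMap k A), two, map_zero]
    have hs : ∀ a b : Fin (2 + 1), a ≠ b → algebraMap k A (M a b) + algebraMap k A (M b a) = 0 :=
      fun a b hab => by rw [← map_add, (h2 a b hab).2, map_zero]
    rw [hM]
    change (∑ a : Fin 3, ∑ b : Fin 3, _) = ∑ a : Fin 3, _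
    simp only [Fin.sum_univ_three]
    linear_combination (x 0 * x 1) * hs 0 1 (by decide) + (x 0 * x 2) * hs 0 2 (by decide) +
      (x 1 * x 2) * hs 1 2 (by decide)

end Groth.Agent.ConicPt
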