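import Groth.Agent.LefPenLib.Coord
import Groth.Agent.GrpSchLib.SmoothReduced
import Mathlib.FieldTheory.IsAlgClosed.AlgebraicClosure
import Mathlib.RingTheory.RingHom.Smooth

/-!
# Diagonal quadrics in characteristic two do not vanish on smooth algebras
-/

set_option autoImplicit false
set_option linter.style.haveILetI false
set_option linter.unusedSectionVars false
set_option maxHeartbeats 1000000
set_option synthInstance.maxHeartbeats 400000
set_option backward.isDefEq.respectTransparency false
set_option backward.isDefEq.respectTransparency.types false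

universe u

open CategoryTheory CategoryTheory.Limits AlgebraicGeometry TopologicalSpace Opposite
open scoped TensorProduct

noncomputable section

namespace Groth.Agent.ConicPt

open Groth.Agent

/-- Sections over an affine open of a smooth scheme form a smooth algebra. -/
theorem smooth_affMap {k : Type u} [Field k] {X : Scheme.{u}} (f : X ⟶ Spec (CommRingCat.of k)) [Smooth f]
    {V : X.Opens} (hV : IsAffineOpen V) : (SmoothReg.affMap f V).Smooth :=
  RingHom.Smooth.stableUnderComposition _ _
    (RingHom.Smooth.of_bijective (ConcreteCategory.bijective_of_isIso (Scheme.ΓSpecIso (CommRingCat.of k)).inv))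
    (HasRingHomProperty.appLE @Smooth f inferInstance ⟨⊤, isAffineOpen_top _⟩ ⟨V, hV⟩ (by simp))

/-- Over a smooth algebra a diagonal quadric in characteristic two has no zero with linearly
independent entries. -/
theorem diag_ne_zero {k A : Type u} [Field k] [CommRing A] [Algebra k A] [Algebra.Smooth k A]
    (two : (2 : k) = 0) {n : ℕ} (c : Fin n → k) {i₀ : Fin n} (hc : c i₀ ≠ 0) (x : Fin n → A)
    (hx : LinearIndependent k x) : ∑ i, algebraMap k A (c i) * (x i * x i) ≠ 0 := by
  intro h0
  let K := AlgebraicClosure k
  haveI : Smooth (Spec.map (CommRingCat.ofHom (algebraMap K (K ⊗[k] A)))) := by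
    rw [HasRingHomProperty.Spec_iff (P := @Smooth)]
    exact RingHom.smooth_algebraMap.2 inferInstance
  haveI hred : _root_.IsReduced (K ⊗[k] A) := by
    haveI := GrpSchLib.isReduced_of_smooth_field (Spec.map (CommRingCat.ofHom (algebraMap K (K ⊗[k] A))))
    exact (affine_isReduced_iff (CommRingCat.of (K ⊗[k] A))).1 inferInstance
  choose d hd using fun i => IsAlgClosed.exists_eq_mul_self (algebraMap k K (c i))
  have twoT : (2 : K ⊗[k] A) = 0 := by rw [← map_ofNat (algebraMap k (K ⊗[k] A)), two, map_zero]
  let g : Fin n → K ⊗[k] A := fun i => d i ⊗ₜ[k] x i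
  have sq : ∀ s : Finset (Fin n), (∑ i ∈ s, g i) * (∑ i ∈ s, g i) = ∑ i ∈ s, g i * g i := by
    intro s
    induction s using Finset.induction_on with
    | empty => simp
    | insert a s ha ih =>
      rw [Finset.sum_insert ha, Finset.sum_insert ha, ← ih]
      linear_combination (g a * ∑ i ∈ s, g i) * twoT
  have hsum : (∑ i, g i) = 0 := by
    refine IsNilpotent.eq_zero ⟨2, ?_⟩
    rw [pow_two, sq]
    calc ∑ i, g i * g i = ∑ i, (1 : K) ⊗ₜ[k] (algebraMap k A (c i) * (x i * x i)) :=
          Finset.sum_congr rfl fun i _ => by
            simp only [g, Algebra.TensorProduct.tmul_mul_tmul, ← hd]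
            rw [← Algebra.smul_def, Algebra.algebraMap_eq_smul_one, TensorProduct.smul_tmul]
      _ = 0 := by rw [← TensorProduct.tmul_sum, h0, TensorProduct.tmul_zero]
  let φ : (Fin n → k) →ₗ[k] A := Fintype.linearCombination k x
  have hinj : Function.Injective (φ.lTensor K) :=
    Module.Flat.lTensor_preserves_injective_linearMap φ hx.fintypeLinearCombination_injective
  have h1 : (∑ i, d i ⊗ₜ[k] (Pi.single i (1 : k) : Fin n → k)) = 0 := hinj (by
    rw [map_sum, map_zero]
    refine Eq.trans (Finset.sum_congr rfl fun i _ => ?_) hsum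
    simp [g, φ])
  have h2 := congrFun (congrArg (TensorProduct.piScalarRight k k K (Fin n)) h1) i₀
  simp [map_sum, TensorProduct.piScalarRight_apply, Pi.single_apply] at h2
  exact hc ((algebraMap k K).injective (by rw [hd, h2, mul_zero, map_zero]))

end Groth.Agent.ConicPt
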