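import Groth.Agent.ConicPt.Fibration
import Groth.Agent.SurfRows.Ruled
import Groth.Agent.CurveCohLib.RegularCurve
import Groth.Agent.S16049
import Groth.Agent.S16754

/-!
# Geometrically ruled surfaces have sections
-/

set_option autoImplicit false
set_option linter.style.haveILetI false
set_option linter.unusedSectionVars false
set_option maxHeartbeats 2000000
set_option synthInstance.maxHeartbeats 400000
set_option backward.isDefEq.respectTransparency false
set_option backward.isDefEq.respectTransparency.types false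

universe u

open CategoryTheory CategoryTheory.Limits AlgebraicGeometry TopologicalSpace Opposite

noncomputable section

namespace Groth.Agent.ConicPt

open Groth.Agent

variable (k : Type u) [Field k] [IsAlgClosed k]
  {X : Scheme.{u}} [X.Over (Spec (CommRingCat.of k))] [IsProper (X ↘ Spec (CommRingCat.of k))]
  [Smooth (X ↘ Spec (CommRingCat.of k))] [IsIntegral X]
  {C : Scheme.{u}} [C.Over (Spec (CommRingCat.of k))] [IsProper (C ↘ Spec (CommRingCat.of k))]
  [Smooth (C ↘ Spec (CommRingCat.of k))] [IsIntegral C]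
  (π : X ⟶ C) [π.IsOver (Spec (CommRingCat.of k))] [Surjective π]
  (hdimC : topologicalKrullDim C = 1)
  (hfib : ∀ y : C, IsClosed ({y} : Set C) → Nonempty (π.fiber y ≅ CohB1.ProjSpace 1 k))

include hdimC hfib in
theorem smooth_closed_fibre (y : C) (hy : IsClosed ({y} : Set C)) : Smooth (π.fiberToSpecResidueField y) := by
  obtain ⟨e⟩ := hfib y hy
  obtain ⟨φ, hφ, hφe⟩ := SurfRows.exists_residue_iso k (C ↘ Spec (CommRingCat.of k)) y hy
  haveI : IsIso (Spec.map (CommRingCat.ofHom φ)) := by
    haveI : IsIso (CommRingCat.ofHom φ) := (ConcreteCategory.isIso_iff_bijective _).mpr hφ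
    infer_instance
  letI : (π.fiber y).Over (Spec (CommRingCat.of k)) := ⟨π.fiberι y ≫ (X ↘ Spec (CommRingCat.of k))⟩
  haveI := (SurfRows.line_fibre k π hdimC y hy e).1
  haveI := CurveEmbed.smooth_toSpec 1 k
  haveI : Smooth (π.fiber y ↘ Spec (CommRingCat.of k)) := CurveCohLib.RegularCurve.smooth_of_regular k fun x _ => by
    have h : IsRegularLocalRing ((CohB1.ProjSpace 1 k).presheaf.stalk (e.hom x)) :=
      SmoothReg.isRegularLocalRing_stalk_of_mem_smoothLocus (CohB1.ProjSpace.toSpec 1 k) (by
        rw [Scheme.Hom.smoothLocus_eq_top]; trivial)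
    haveI := h
    exact IsRegularLocalRing.of_ringEquiv (asIso (e.hom.stalkMap x)).commRingCatIsoToRingEquiv
  have h2 : π.fiberToSpecResidueField y ≫ Spec.map (CommRingCat.ofHom φ) = π.fiber y ↘ Spec (CommRingCat.of k) := by
    rw [← hφe]
    exact (π.fiber_fac_assoc y _).symm.trans (congrArg (π.fiberι y ≫ ·) (comp_over π (Spec (CommRingCat.of k))))
  exact (MorphismProperty.cancel_right_of_respectsIso @Smooth (π.fiberToSpecResidueField y)
    (Spec.map (CommRingCat.ofHom φ))).1 (by rw [h2]; infer_instance)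

include k hdimC hfib in
theorem smooth_of_fibres : Smooth π := by
  obtain ⟨hpr, hfl, hlfp, hln⟩ := SurfRows.fibred_morphism k π hdimC
  haveI := hpr; haveI := hfl; haveI := hlfp
  rw [← Scheme.Hom.smoothLocus_eq_top_iff]
  refine top_le_iff.1 fun x _ => ?_
  obtain ⟨x', hx', hxc⟩ := VarDim.exists_closed_specialization (X ↘ Spec (CommRingCat.of k)) x
  have hc : IsClosed ({π x'} : Set C) := by
    have h := π.isClosedMap _ hxc
    rwa [Set.image_singleton] at h
  haveI := smooth_closed_fibre k π hdimC hfib _ hc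
  have hs : Smooth (pullback.snd π ((𝟙 C : C ⟶ C).fiberι (π x'))) := by
    haveI : IsIso ((𝟙 C : C ⟶ C).fiberToSpecResidueField (π x')) :=
      inferInstanceAs (IsIso (pullback.snd (𝟙 C) (C.fromSpecResidueField (π x'))))
    have sq := (IsPullback.of_hasPullback (π.fiberToSpecResidueField (π x'))
      ((𝟙 C : C ⟶ C).fiberToSpecResidueField (π x'))).paste_horiz
        (IsPullback.of_hasPullback π (C.fromSpecResidueField (π x')))
    have e1 : (𝟙 C : C ⟶ C).fiberι (π x') =
        (𝟙 C : C ⟶ C).fiberToSpecResidueField (π x') ≫ C.fromSpecResidueField (π x') := by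
      rw [← Scheme.Hom.fiber_fac, Category.comp_id]
    have h : Smooth (pullback.snd (π.fiberToSpecResidueField (π x'))
        ((𝟙 C : C ⟶ C).fiberToSpecResidueField (π x'))) := inferInstance
    rw [e1, ← sq.isoPullback_inv_snd]
    infer_instance
  obtain ⟨U, hU, hUs⟩ := S16049.result (𝟙 C) π π (Category.comp_id π) (π x') hs
  haveI := hUs
  refine hx'.mem_open π.smoothLocus.2 ?_
  have h : (⟨x', hU x' rfl⟩ : (U : Scheme.{u})) ∈ U.ι ⁻¹ᵁ π.smoothLocus := by
    rw [Scheme.Hom.preimage_smoothLocus_eq, Scheme.Hom.smoothLocus_eq_top]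
    trivial
  exact h

include k hdimC hfib in
/-- The fibre invariants of a geometrically ruled surface. -/
theorem generic_fibre :
    GeometricallyIntegral (π.fiberToSpecResidueField (genericPoint C)) ∧
      (letI : (π.fiber (genericPoint C)).Over (Spec (C.residueField (genericPoint C))) :=
          ⟨π.fiberToSpecResidueField (genericPoint C)⟩;
        Curv2.genus (C.residueField (genericPoint C)) (π.fiber (genericPoint C)) = 0) := by
  obtain ⟨hpr, hfl, hlfp, hln⟩ := SurfRows.fibred_morphism k π hdimC
  haveI := hpr; haveI := hfl; haveI := hlfp; haveI := hln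
  haveI := smooth_of_fibres k π hdimC hfib
  haveI : HasInjectiveResolutions X.Modules := KFlatLib.hasInjectiveResolutions_modules
  let η := genericPoint C
  obtain ⟨c, hηc, hc⟩ := SurfRows.exists_closed_spec k η
  have hrk : ∀ (y : C) (i : ℕ), CohIII.fiberRank π (Coh.structureModule X) i y =
      Models.hRank ↥(C.residueField y) (π.fiber y) (π.fiberToSpecResidueField y)
        (Coh.structureModule (π.fiber y)) i := fun y i => by
    letI : (π.fiber y).Over (Spec (CommRingCat.of ↥(C.residueField y))) := ⟨π.fiberToSpecResidueField y⟩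
    obtain ⟨t⟩ := PicClLib.nonempty_pullback_structureModule (π.fiberι y)
    exact (CurveCohLib.hhEquiv (k := ↥(C.residueField y)) t i).finrank_eq
  have hO := InvX.isInvertible_structureModule (X := X)
  have hfp := QCoh.isFP_of_isFinLocFree (SurfRows.locFree hO)
  have hfo := H28.FlatPr.isFlatOver_of_isFinLocFree π (SurfRows.locFree hO)
  have h0c : CohIII.fiberRank π (Coh.structureModule X) 0 c = 1 := by
    rw [hrk]
    exact SurfRows.line_h0 k π hfib hdimC c hc
  have h1c : CohIII.fiberRank π (Coh.structureModule X) 1 c = 0 := by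
    rw [hrk, SurfRows.finrank_fibre k π (C ↘ Spec (CommRingCat.of k)) c hc]
    obtain ⟨e⟩ := hfib c hc
    letI : (π.fiber c).Over (Spec (CommRingCat.of k)) := ⟨π.fiberι c ≫ (X ↘ Spec (CommRingCat.of k))⟩
    have h := (SurfRows.line_fibre k π hdimC c hc e).2.2.2.2.2.2
    rw [comp_over π]
    exact h
  have h0η : CohIII.fiberRank π (Coh.structureModule X) 0 η < 2 :=
    hηc.mem_open (KFlatLib.FibreEuler.isOpen_fiberRank_lt (f := π) hfp hfo 0 2)
      (show CohIII.fiberRank π (Coh.structureModule X) 0 c < 2 by omega)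
  have h1η : CohIII.fiberRank π (Coh.structureModule X) 1 η < 1 :=
    hηc.mem_open (KFlatLib.FibreEuler.isOpen_fiberRank_lt (f := π) hfp hfo 1 1)
      (show CohIII.fiberRank π (Coh.structureModule X) 1 c < 1 by omega)
  rw [hrk] at h0η h1η
  letI : (π.fiber η).Over (Spec (CommRingCat.of ↥(C.residueField η))) := ⟨π.fiberToSpecResidueField η⟩
  haveI : IsProper (π.fiber η ↘ Spec (CommRingCat.of ↥(C.residueField η))) :=
    MorphismProperty.pullback_snd π (C.fromSpecResidueField η) ‹IsProper π›
  haveI : Smooth (π.fiber η ↘ Spec (CommRingCat.of ↥(C.residueField η))) :=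
    MorphismProperty.pullback_snd π (C.fromSpecResidueField η) ‹Smooth π›
  have hne : Nonempty (π.fiber η) := by
    obtain ⟨z, hz⟩ := π.surjective η
    obtain ⟨w, -⟩ : z ∈ Set.range (π.fiberι η) := by rw [π.range_fiberι]; exact hz
    exact ⟨w⟩
  have h0 : Module.finrank (C.residueField η) (Coh.HH (π.fiber η) (Coh.structureModule (π.fiber η)) 0) = 1 := by
    haveI := hne
    haveI : Nonempty (⊤ : (π.fiber η).Opens) := ⟨⟨hne.some, trivial⟩⟩
    haveI := CurveCohLib.isNoetherian_of_proper (k := ↥(C.residueField η)) (X := π.fiber η)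
    haveI := CurveCohLib.finite_HH (k := ↥(C.residueField η)) (QCoh.isCoh_structureModule' (X := π.fiber η)) 0
    have hpos : 0 < Module.finrank (C.residueField η) (Coh.HH (π.fiber η) (Coh.structureModule (π.fiber η)) 0) := by
      let e := Sheaf.H.equiv₀ (Coh.toAb (Coh.structureModule (π.fiber η))) isTerminalTop
      haveI : Nontrivial (Coh.HH (π.fiber η) (Coh.structureModule (π.fiber η)) 0) :=
        ⟨⟨e.symm (1 : Γ(π.fiber η, ⊤)), 0, fun h => one_ne_zero (α := Γ(π.fiber η, ⊤))
          ((e.apply_symm_apply _).symm.trans ((congrArg e h).trans (map_zero e)))⟩⟩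
      exact Module.finrank_pos
    have h2 : Module.finrank (C.residueField η) (Coh.HH (π.fiber η) (Coh.structureModule (π.fiber η)) 0) < 2 := h0η
    omega
  haveI := CurveBC.isIntegral_of_h0 ↥(C.residueField η) (π.fiber η) h0
  refine ⟨⟨fun L _ t Y fst snd hpb => ?_⟩, Nat.lt_one_iff.1 h1η⟩
  letI : Algebra (C.residueField η) L := (Spec.preimage t).hom.toAlgebra
  letI : Y.Over (Spec (CommRingCat.of L)) := ⟨snd⟩
  exact CurveBC.isIntegral ↥(C.residueField η) L fst (by
    rwa [show Spec.map (CommRingCat.ofHom (algebraMap (C.residueField η) L)) = t from Spec.map_preimage t]) h0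

include k hdimC hfib in
theorem exists_section_of_ruled (hdim : topologicalKrullDim X = 2) : ∃ σ : C ⟶ X, σ ≫ π = 𝟙 C := by
  obtain ⟨hgi, hgen⟩ := generic_fibre k π hdimC hfib
  haveI := hgi
  have hπ := comp_over π (Spec (CommRingCat.of k))
  obtain ⟨e, he⟩ := exists_fibre_line k (X ↘ Spec (CommRingCat.of k)) (C ↘ Spec (CommRingCat.of k)) π hπ hdim hdimC
    π.surjective hgen
  exact exists_section k (X ↘ Spec (CommRingCat.of k)) (C ↘ Spec (CommRingCat.of k)) π hπ hdimC e he

end Groth.Agent.ConicPt
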