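import Groth.Agent.ConicPt.Curve
import Groth.Agent.ConicPt.Quad
import Groth.Agent.ConicPt.Reduced
import Groth.Agent.H23.MaxAbelian

/-!
# A genus zero curve splits over a separable extension of degree at most two
-/

set_option autoImplicit false
set_option linter.style.haveILetI false
set_option linter.unusedSectionVars false
set_option maxHeartbeats 3000000
set_option synthInstance.maxHeartbeats 400000
set_option backward.isDefEq.respectTransparency false
set_option backward.isDefEq.respectTransparency.types false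

universe u

open CategoryTheory CategoryTheory.Limits AlgebraicGeometry TopologicalSpace Opposite

noncomputable section

namespace Groth.Agent.ConicPt

open Groth.Agent Groth.Agent.VarDim.ProjN

variable {k : Type u} [Field k] {X : Scheme.{u}}

/-- A form in the prime of the generic point vanishes on the charts of a reduced irreducible subscheme,
and conversely. -/
theorem pullPoly_eq_zero_iff [IsIntegral X] {n : ℕ} (i : X ⟶ CohB1.ProjSpace n k) {d : ℕ} (hd : 0 < d)
    (G : LefPen.Form n k d) (l : Fin (n + 1)) (hl : i (genericPoint X) ∈ LefPen.chart n k l) :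
    LefPenLib.pullPoly i l G.1 = 0 ↔ G.1 ∈ (pp (i (genericPoint X))).asIdeal := by
  rw [← LefPenLib.pullForm_eq i l G, ← basicOpen_eq_bot_iff]
  show X.basicOpen (i.app _ (LefPen.dehom G l)) = ⊥ ↔ _
  rw [← Scheme.preimage_basicOpen, basicOpen_dehom hd G l]
  refine ⟨fun h => ?_, fun h => ?_⟩
  · by_contra hG
    have : genericPoint X ∈ i ⁻¹ᵁ (LefPen.chart n k l ⊓ Proj.basicOpen _ G.1) := ⟨hl, hG⟩
    rw [h] at this
    exact this
  · refine eq_bot_iff.2 fun z hz => ?_
    exact (((genericPoint_specializes z).map i.continuous).mem_open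
      (Proj.basicOpen (CohB1.polyGrading n k) G.1).isOpen hz.2) h

/-- An integral smooth curve on a conic has a point in a separable extension of degree at most two. -/
theorem exists_sep_point [X.Over (Spec (CommRingCat.of k))] [IsIntegral X]
    [IsProper (X ↘ Spec (CommRingCat.of k))] [Smooth (X ↘ Spec (CommRingCat.of k))]
    (hdim : topologicalKrullDim X = 1)
    (i : X ⟶ CohB1.ProjSpace 2 k) [IsClosedImmersion i]
    (hi : i ≫ CohB1.ProjSpace.toSpec 2 k = X ↘ Spec (CommRingCat.of k))
    (q : LefPen.Form 2 k 2) (hq : q ≠ 0) (hle : LefPen.hypIdeal q ≤ i.ker) :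
    ∃ (K : Type u) (_ : Field K) (_ : Algebra k K), FiniteDimensional k K ∧ Algebra.IsSeparable k K ∧
      Module.finrank k K ≤ 2 ∧
      ∃ t : Spec (CommRingCat.of K) ⟶ X,
        t ≫ (X ↘ Spec (CommRingCat.of k)) = Spec.map (CommRingCat.ofHom (algebraMap k K)) := by
  let η := i (genericPoint X)
  have hsup : η ∈ (LefPen.hypIdeal q).support :=
    Scheme.IdealSheafData.support_antitone hle (i.range_subset_ker_support ⟨genericPoint X, rfl⟩)
  have hqη := mem_of_mem_support (by norm_num) q hsup
  obtain ⟨c, hc⟩ : ∃ c : X, IsClosed ({c} : Set X) := by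
    haveI : JacobsonSpace X := LocallyOfFiniteType.jacobsonSpace (X ↘ Spec (CommRingCat.of k))
    obtain ⟨x, -, hx⟩ := nonempty_inter_closedPoints (Set.univ_nonempty (α := X)) isClosed_univ.isLocallyClosed
    exact ⟨x, hx⟩
  have hne : i (genericPoint X) ≠ i c := fun h =>
    CurveEmbed.genericPoint_not_closed hdim (by rw [i.isClosedEmbedding.injective h]; exact hc)
  have hlt : (pp η).asIdeal < (pp (i c)).asIdeal := by
    refine lt_of_le_of_ne (pp_le_pp.2 ?_) fun h => hne (pp_injective (PrimeSpectrum.ext h))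
    exact (ProjectiveSpectrum.le_iff_mem_closure _ _ _).2
      (specializes_iff_mem_closure.1 ((genericPoint_specializes c).map i.continuous))
  have hP : (pp η).asIdeal.IsPrime := (pp η).2
  obtain ⟨r, hr0, hspan, hrh, hpos, hdeg⟩ := exists_generator hP (isHomogeneous_pp η)
    (fun Q hQ hQ0 hQle => eq_of_le_of_lt hP hlt (pp_lt_vertexPoint (i c)) hQ hQ0 hQle)
    hqη ((MvPolynomial.mem_homogeneousSubmodule 2 _).1 q.2) (fun h => hq (Subtype.ext h))
  -- a zero of `r` gives a point
  have pt : ∀ (K : Type u) [Field K] [Algebra k K] (j : Fin (2 + 1)) (a : Fin (2 + 1) → K) (ha : a j = 1),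
      MvPolynomial.aeval a r = 0 → ∃ t : Spec (CommRingCat.of K) ⟶ X,
        t ≫ (X ↘ Spec (CommRingCat.of k)) = Spec.map (CommRingCat.ofHom (algebraMap k K)) := by
    intro K _ _ j a ha hz
    let p := ZetaLib.pointAt (k := k) (K := K) (n := 2) j a ha
    have hle' : (pp η).asIdeal ≤ (pp (p (IsLocalRing.closedPoint K))).asIdeal := by
      rw [← hspan, Ideal.span_singleton_le_iff_mem]
      exact mem_pointAt_ext hpos ⟨r, hrh⟩ j a ha hz
    have hmem : p (IsLocalRing.closedPoint K) ∈ Set.range i :=
      i.isClosedEmbedding.isClosed_range.closure_subset_iff.2 (Set.singleton_subset_iff.2 ⟨_, rfl⟩)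
        ((ProjectiveSpectrum.le_iff_mem_closure _ _ _).1 (pp_le_pp.1 hle'))
    haveI : IsReduced (Spec (CommRingCat.of K)) := inferInstance
    obtain ⟨t, ht⟩ := H23.RedSub.exists_lift p i (by
      rintro _ ⟨x, rfl⟩
      obtain rfl : x = IsLocalRing.closedPoint K := Subsingleton.elim _ _
      exact hmem)
    refine ⟨t, ?_⟩
    rw [← hi, ← Category.assoc, ht]
    show (Spec.map _ ≫ ZetaLib.chart 2 k j) ≫ _ = _
    rw [Category.assoc, ZetaLib.chart_toSpec, ← Spec.map_comp, ← CommRingCat.ofHom_comp, ZetaLib.evalAt_base]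
  rcases (show r.totalDegree = 1 ∨ r.totalDegree = 2 by omega) with h1 | h2
  · obtain ⟨a, ha, hz⟩ := exists_linear_zero (h1 ▸ hrh)
    obtain ⟨j, hj⟩ : ∃ j, a j ≠ 0 := Function.ne_iff.1 ha
    refine ⟨k, inferInstance, inferInstance, inferInstance, inferInstance, by simp,
      pt k j (fun l => (a j)⁻¹ * a l) (inv_mul_cancel₀ hj) ?_⟩
    rw [MvPolynomial.aeval_eq_eval]
    refine (LefPenLib.eval_smul_of_isHomogeneous hrh _ a).trans ?_
    rw [hz, mul_zero]
  rcases exists_zero_sep (h2 ▸ hrh) with ⟨K, iF, iA, hfin, hsep, hfr, j, a, ha, hz⟩ | ⟨two, co, hco, hev⟩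
  · exact ⟨K, iF, iA, hfin, hsep, hfr, pt K j a ha hz⟩
  -- the diagonal case in characteristic two contradicts smoothness
  exfalso
  obtain ⟨l, hl⟩ := Opens.mem_iSup.1 ((LefPenLib.iSup_chart (r := 2) (k := k)).ge (Set.mem_univ η))
  letI := LefPenLib.wAlgebra i l
  haveI : Algebra.Smooth k Γ(X, LefPenLib.wOpen i l) := by
    haveI : Smooth (i ≫ CohB1.ProjSpace.toSpec 2 k) := hi ▸ inferInstance
    exact RingHom.smooth_algebraMap.1 (smooth_affMap (i ≫ CohB1.ProjSpace.toSpec 2 k) (LefPenLib.isAffine_wOpen i l))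
  let x : Fin (2 + 1) → Γ(X, LefPenLib.wOpen i l) := fun j => LefPenLib.pullPoly i l (MvPolynomial.X j)
  have hx : LinearIndependent k x := by
    rw [Fintype.linearIndependent_iff]
    intro g hg j
    let L : MvPolynomial (Fin (2 + 1)) k := ∑ j, MvPolynomial.C (g j) * MvPolynomial.X j
    have hL : L.IsHomogeneous 1 := MvPolynomial.IsHomogeneous.sum _ _ _ fun j _ =>
      MvPolynomial.isHomogeneous_C_mul_X (g j) j
    have hLz : LefPenLib.pullPoly i l L = 0 := by
      rw [← hg, map_sum]
      refine Finset.sum_congr rfl fun j _ => ?_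
      rw [map_mul, Algebra.smul_def, ← MvPolynomial.algebraMap_eq, AlgHom.commutes]
    have hLP := (pullPoly_eq_zero_iff i Nat.one_pos ⟨L, hL⟩ l hl).1 hLz
    have hL0 : L = 0 := by
      by_contra h
      obtain ⟨e, he⟩ := Ideal.mem_span_singleton.1 (hspan.ge hLP)
      have := MvPolynomial.totalDegree_mul_of_isDomain hr0 (fun h' => h (by
        change L = r * e at he; rw [he, h', mul_zero]) : e ≠ 0)
      rw [← he, show (⟨L, hL⟩ : LefPen.Form 2 k 1).1 = L from rfl, hL.totalDegree h, h2] at this
      omega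
    have := congrArg (MvPolynomial.coeff (Finsupp.single j 1)) hL0
    simpa [L, MvPolynomial.coeff_sum, MvPolynomial.coeff_X, Finsupp.single_left_inj] using this
  refine diag_ne_zero two co (hco 0) x hx ?_
  rw [← hev]
  have h := (pullPoly_eq_zero_iff i hpos ⟨r, hrh⟩ l hl).2 (hspan.le (Ideal.mem_span_singleton_self r))
  rw [← h]
  exact DFunLike.congr_fun (MvPolynomial.aeval_unique (LefPenLib.pullPoly i l)).symm r

/-- A geometrically integral smooth curve of genus zero becomes a projective line over a separable extension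
of degree at most two. -/
theorem exists_splitting (k : Type u) [Field k] (X : Scheme.{u})
    [X.Over (Spec (CommRingCat.of k))] [IsProper (X ↘ Spec (CommRingCat.of k))]
    [Smooth (X ↘ Spec (CommRingCat.of k))] (hdim : topologicalKrullDim X = 1)
    (h0 : Module.finrank k (Coh.HH X (Coh.structureModule X) 0) = 1) (hg : Curv2.genus k X = 0) :
    ∃ (K : Type u) (_ : Field K) (_ : Algebra k K), FiniteDimensional k K ∧ Algebra.IsSeparable k K ∧
      Module.finrank k K ≤ 2 ∧
      ∃ e : pullback (X ↘ Spec (CommRingCat.of k)) (Spec.map (CommRingCat.ofHom (algebraMap k K))) ≅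
          CohB1.ProjSpace 1 K,
        e.hom ≫ CohB1.ProjSpace.toSpec 1 K =
          pullback.snd (X ↘ Spec (CommRingCat.of k)) (Spec.map (CommRingCat.ofHom (algebraMap k K))) := by
  let f := X ↘ Spec (CommRingCat.of k)
  haveI : IsIntegral X := CurveBC.isIntegral_of_h0 k X h0
  haveI : GeometricallyIntegral f := H23.MaxAbelian.geometricallyIntegral_of_pullback f fun K _ x => by
    obtain ⟨φ, rfl⟩ := Spec.map_surjective x
    letI : Algebra k K := φ.hom.toAlgebra
    letI : (pullback f (Spec.map φ)).Over (Spec (CommRingCat.of K)) := ⟨pullback.snd f _⟩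
    exact CurveBC.isIntegral k K (pullback.fst f (Spec.map φ)) (IsPullback.of_hasPullback f (Spec.map φ)) h0
  obtain ⟨i, hi, hie, q, hq, hle⟩ := exists_conic k X hdim hg
  haveI := hi
  obtain ⟨K, iF, iA, hfin, hsep, hfr, t, ht⟩ := exists_sep_point hdim i hie q hq hle
  refine ⟨K, iF, iA, hfin, hsep, hfr, ?_⟩
  let b := Spec.map (CommRingCat.ofHom (algebraMap k K))
  let X' := pullback f b
  letI : X'.Over (Spec (CommRingCat.of K)) := ⟨pullback.snd f b⟩
  have hpb : IsPullback (pullback.fst f b) (X' ↘ Spec (CommRingCat.of K)) f b := IsPullback.of_hasPullback f b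
  haveI : IsProper (X' ↘ Spec (CommRingCat.of K)) := CurveBC.isProper k K _ hpb
  haveI : GeometricallyIntegral (X' ↘ Spec (CommRingCat.of K)) :=
    inferInstanceAs (GeometricallyIntegral (pullback.snd f b))
  haveI : Subsingleton (Spec (CommRingCat.of K)) := inferInstanceAs (Subsingleton (PrimeSpectrum K))
  haveI : IsIntegral X' := GeometricallyIntegral.isIntegral_of_subsingleton (X' ↘ Spec (CommRingCat.of K))
  haveI := CurveCohLib.isNoetherian_of_proper (k := K) (X := X')
  have hd' := CurveBC.topologicalKrullDim_eq k K _ hpb hdim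
  have h0' : Module.finrank K (Coh.HH X' (Coh.structureModule X') 0) = 1 := CurveBC.finrank_h0 k K _ hpb h0
  haveI := quasiSeparatedSpace_of_quasiSeparated f
  haveI := QuasiCompact.compactSpace_of_compactSpace f
  have hg' : Module.finrank K (Coh.HH X' (Coh.structureModule X') 1) = 0 :=
    (CurveBC.genus_eq k K _ hpb).trans hg
  have hpa : 1 - Curv2.euler K X' (Coh.structureModule X') ≤ 0 := by
    have h := CurveRR.euler_eq_h0_sub_h1 K hd'.le (QCoh.isQCoh_structureModule (X := X'))
    rw [show Curv2.euler K X' (Coh.structureModule X') = ((1 : ℕ) : ℤ) - ((0 : ℕ) : ℤ) from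
      h.trans (congrArg₂ (fun a b : ℕ => (a : ℤ) - (b : ℤ)) h0' hg')]
    norm_num
  exact (CurveEmbed.conic X' K hd' hpa).2.2
    ⟨pullback.lift t (𝟙 _) (by rw [ht, Category.id_comp]), pullback.lift_snd _ _ _⟩

end Groth.Agent.ConicPt
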